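import Mathlib

/-!
# Elementwise Galois descent away from the relative inertia (helper29)

`H` a finite abelian group acting on `A` with ring of invariants `R`.  For subgroups `N₁, M, N'`
with `N' ≤ N₁`, `M ⊓ N₁ = ⊥` and a prime `𝔭` of `R` such that all primes of `A` above `𝔭` have
inertia group inside `N₁`: every `N'`-invariant element of `A` becomes, after multiplication by
some `s ∉ 𝔭`, an element of the subalgebra generated by `A^{N₁}` and `A^{M ⊔ N'}`
(`exists_smul_mem_sup`).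
-/

set_option autoImplicit false
set_option linter.style.haveILetI false
set_option linter.unusedSectionVars false

namespace Groth.Agent.Lib.Helper29.WildGen

open Pointwise

variable {R A : Type*} [CommRing R] [CommRing A] [Algebra R A]
  {H : Type*} [Group H] [MulSemiringAction H A] [SMulCommClass H R A]

/-- the subalgebra of invariants of a subgroup -/
abbrev Afix (N : Subgroup H) : Subalgebra R A := FixedPoints.subalgebra R A N

theorem mem_Afix {N : Subgroup H} {a : A} : a ∈ Afix (R := R) N ↔ ∀ h ∈ N, h • a = a :=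
  ⟨fun ha h hh => ha ⟨h, hh⟩, fun ha h => ha h.1 h.2⟩

theorem Afix_mono {N N' : Subgroup H} (h : N' ≤ N) : Afix (R := R) (A := A) N ≤ Afix N' :=
  fun _ ha => mem_Afix.mpr fun g hg => mem_Afix.mp ha g (h hg)

section Comm

variable (hcomm : ∀ g h : H, g * h = h * g)
include hcomm

theorem smul_mem_Afix {N : Subgroup H} (t : H) {y : A} (hy : y ∈ Afix (R := R) N) :
    t • y ∈ Afix (R := R) N := by
  rw [mem_Afix] at hy ⊢
  intro h hh
  rw [← mul_smul, hcomm h t, mul_smul, hy h hh]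

/-- the relative trace along a subgroup -/
theorem sum_smul_mem_Afix (M N' : Subgroup H) [Fintype M] {z : A}
    (hz : z ∈ Afix (R := R) N') :
    ∑ m : M, (m : H) • z ∈ Afix (R := R) (M ⊔ N') := by
  classical
  rw [mem_Afix]
  have hle : M ⊔ N' ≤ MulAction.stabilizer H (∑ m : M, (m : H) • z) := by
    refine sup_le ?_ ?_
    · intro m' hm'
      rw [MulAction.mem_stabilizer_iff, Finset.smul_sum]
      refine Fintype.sum_bijective (fun m : M => (⟨m', hm'⟩ : M) * m)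
        (Group.mulLeft_bijective _) _ _ (fun m => ?_)
      rw [← mul_smul]
      rfl
    · intro n hn
      rw [MulAction.mem_stabilizer_iff, Finset.smul_sum]
      refine Finset.sum_congr rfl (fun m _ => ?_)
      rw [← mul_smul, hcomm n m, mul_smul, mem_Afix.mp hz n hn]
  intro h hh
  exact MulAction.mem_stabilizer_iff.mp (hle hh)

/-- **Relative inertia.** If `t` acts trivially on `A^{N₁}` modulo a prime `P` of `A` whose inertia
group is contained in `N₁`, then `t ∈ N₁`. -/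
theorem mem_of_forall_smul_sub_mem [Finite H] (N₁ : Subgroup H) (t : H) (P : Ideal A) [P.IsPrime]
    (hI : P.inertia H ≤ N₁) (ht : ∀ y ∈ Afix (R := R) N₁, t • y - y ∈ P) : t ∈ N₁ := by
  let E := Afix (R := R) (A := A) N₁
  haveI : Algebra.IsInvariant E A N₁ := ⟨fun a ha => ⟨⟨a, ha⟩, rfl⟩⟩
  have hunder : (t • P).under E = P.under E := by
    ext y
    rw [Ideal.under_def, Ideal.mem_comap, Ideal.mem_comap,
      Ideal.mem_pointwise_smul_iff_inv_smul_mem]
    have hy' : t⁻¹ • (y : A) ∈ E := smul_mem_Afix hcomm t⁻¹ y.2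
    have h1 := ht _ hy'
    rw [smul_inv_smul] at h1
    change t⁻¹ • (y : A) ∈ P ↔ (y : A) ∈ P
    constructor
    · intro h
      have := P.add_mem h1 h
      simpa using this
    · intro h
      have := P.sub_mem h h1
      simpa using this
  haveI : (t • P).IsPrime := Ideal.IsPrime.smul t
  obtain ⟨ν₁, hν₁⟩ := Algebra.IsInvariant.exists_smul_of_under_eq E A N₁ P (t • P) hunder.symm
  have hν₁' : t • P = (ν₁ : H) • P := hν₁
  set σ' : H := (ν₁ : H)⁻¹ * t with hσ'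
  have hσ'P : σ' • P = P := by
    rw [hσ', mul_smul, hν₁', inv_smul_smul]
  have hσ'E : ∀ y ∈ E, σ' • y - y ∈ P := by
    intro y hy
    have h1 : t • y ∈ E := smul_mem_Afix hcomm t hy
    have h2 : (ν₁ : H)⁻¹ • (t • y) = t • y := mem_Afix.mp h1 _ (N₁.inv_mem ν₁.2)
    rw [hσ', mul_smul, h2]
    exact ht y hy
  -- the induced automorphism of `A ⧸ P`
  let α := Ideal.Quotient.stabilizerHom P (P.under R) H ⟨σ', hσ'P⟩
  have hα : ∀ a : A, α (Ideal.Quotient.mk P a) = Ideal.Quotient.mk P (σ' • a) :=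
    fun a => Ideal.Quotient.stabilizerHom_apply P (P.under R) H ⟨σ', hσ'P⟩ a
  let α' : (A ⧸ P) ≃ₐ[E ⧸ P.under E] (A ⧸ P) :=
    AlgEquiv.ofRingEquiv (f := α.toRingEquiv) (fun x => by
      obtain ⟨y, rfl⟩ := Ideal.Quotient.mk_surjective x
      rw [Ideal.Quotient.algebraMap_mk_of_liesOver]
      change α (Ideal.Quotient.mk P (y : A)) = _
      rw [hα, Ideal.Quotient.eq]
      exact hσ'E y y.2)
  obtain ⟨ν₂, hν₂⟩ := Ideal.Quotient.stabilizerHom_surjective N₁ (P.under E) P α'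
  have hν₂a : ∀ a : A, σ' • a - (ν₂ : N₁) • a ∈ P := by
    intro a
    have h1 := congrArg (fun e : (A ⧸ P) ≃ₐ[E ⧸ P.under E] (A ⧸ P) => e (Ideal.Quotient.mk P a)) hν₂
    simp only [Ideal.Quotient.stabilizerHom_apply] at h1
    change _ = α (Ideal.Quotient.mk P a) at h1
    rw [hα, Ideal.Quotient.eq] at h1
    have := P.neg_mem h1
    rw [neg_sub] at this
    exact this
  have hν₂P : ((ν₂ : N₁) : H)⁻¹ • P = P := by
    have h1 : ((ν₂ : N₁) : H) • P = P := ν₂.2
    rw [inv_smul_eq_iff, h1]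
  have hg : ((ν₂ : N₁) : H)⁻¹ * σ' ∈ P.inertia H := by
    intro a
    have h1 : (((ν₂ : N₁) : H)⁻¹ * σ') • a - a =
        ((ν₂ : N₁) : H)⁻¹ • (σ' • a - ((ν₂ : N₁) : H) • a) := by
      rw [smul_sub, inv_smul_smul, mul_smul]
    change (((ν₂ : N₁) : H)⁻¹ * σ') • a - a ∈ P
    rw [h1]
    have h2 := Ideal.smul_mem_pointwise_smul ((ν₂ : N₁) : H)⁻¹ _ P (hν₂a a)
    rwa [hν₂P] at h2
  have h3 : σ' ∈ N₁ := by
    have := N₁.mul_mem (ν₂ : N₁).2 (hI hg)
    rwa [mul_inv_cancel_left] at this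
  have h4 := N₁.mul_mem ν₁.2 h3
  rwa [hσ', mul_inv_cancel_left] at h4

/-- the functions `h ↦ x * h • y` -/
def genFun (x y : A) : H → A := fun h => x * h • y

/-- the `R`-span of the functions `h ↦ x * h • y` with `x, y ∈ E` -/
def S (E : Subalgebra R A) : Submodule R (H → A) :=
  Submodule.span R {Φ | ∃ x ∈ E, ∃ y ∈ E, Φ = genFun x y}

omit hcomm in
theorem S_one_mem (E : Subalgebra R A) : (1 : H → A) ∈ S (H := H) E :=
  Submodule.subset_span ⟨1, one_mem _, 1, one_mem _, by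
    funext h
    simp [genFun]⟩

omit hcomm in
theorem S_mul_mem {E : Subalgebra R A} {Φ₁ Φ₂ : H → A} (h₁ : Φ₁ ∈ S (H := H) E)
    (h₂ : Φ₂ ∈ S (H := H) E) : Φ₁ * Φ₂ ∈ S (H := H) E := by
  have hle : S (H := H) E * S (H := H) E ≤ S (H := H) E := by
    rw [S, Submodule.span_mul_span]
    apply Submodule.span_mono
    rintro _ ⟨_, ⟨x, hx, y, hy, rfl⟩, _, ⟨x', hx', y', hy', rfl⟩, rfl⟩
    refine ⟨x * x', mul_mem hx hx', y * y', mul_mem hy hy', ?_⟩
    funext h
    simp only [genFun, Pi.mul_apply, smul_mul']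
    ring
  exact hle (Submodule.mul_mem_mul h₁ h₂)

theorem sum_mul_smul_mem (N₁ M N' : Subgroup H) [Fintype M] (hN' : N' ≤ N₁) {Φ : H → A}
    (hΦ : Φ ∈ S (H := H) (Afix (R := R) N₁)) {a : A} (ha : a ∈ Afix (R := R) N') :
    ∑ m : M, Φ m * (m : H) • a ∈ Afix (R := R) N₁ ⊔ Afix (R := R) (M ⊔ N') := by
  induction hΦ using Submodule.span_induction with
  | mem Φ hΦ =>
    obtain ⟨x, hx, y, hy, rfl⟩ := hΦ
    have h1 : ∑ m : M, genFun x y (m : H) * (m : H) • a = x * ∑ m : M, (m : H) • (y * a) := by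
      rw [Finset.mul_sum]
      refine Finset.sum_congr rfl (fun m _ => ?_)
      simp only [genFun, smul_mul']
      ring
    rw [h1]
    have h2 : ∑ m : M, (m : H) • (y * a) ∈ Afix (R := R) (M ⊔ N') :=
      sum_smul_mem_Afix hcomm M N' (mul_mem (Afix_mono hN' hy) ha)
    exact mul_mem ((le_sup_left : Afix (R := R) N₁ ≤ Afix (R := R) N₁ ⊔ Afix (R := R) (M ⊔ N')) hx)
      ((le_sup_right : Afix (R := R) (M ⊔ N') ≤ Afix (R := R) N₁ ⊔ Afix (R := R) (M ⊔ N')) h2)
  | zero => simp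
  | add Φ₁ Φ₂ _ _ h₁ h₂ =>
    have : ∑ m : M, (Φ₁ + Φ₂) m * (m : H) • a =
        ∑ m : M, Φ₁ m * (m : H) • a + ∑ m : M, Φ₂ m * (m : H) • a := by
      rw [← Finset.sum_add_distrib]
      refine Finset.sum_congr rfl (fun m _ => ?_)
      rw [Pi.add_apply, add_mul]
    rw [this]
    exact add_mem h₁ h₂
  | smul r Φ _ h =>
    have : ∑ m : M, (r • Φ) m * (m : H) • a = r • ∑ m : M, Φ m * (m : H) • a := by
      rw [Finset.smul_sum]
      refine Finset.sum_congr rfl (fun m _ => ?_)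
      rw [Pi.smul_apply, smul_mul_assoc]
    rw [this]
    exact Subalgebra.smul_mem _ h r

theorem exists_mem_S_of_not_mem [Finite H] [Algebra.IsInvariant R A H] (N₁ : Subgroup H)
    (𝔭 : Ideal R) [𝔭.IsPrime]
    (h𝔭 : ∀ P : Ideal A, P.IsPrime → P.comap (algebraMap R A) = 𝔭 → P.inertia H ≤ N₁)
    (t : H) (ht : t ∉ N₁) :
    ∃ Φ ∈ S (H := H) (Afix (R := R) N₁), Φ t = 0 ∧ ∃ s : R, s ∉ 𝔭 ∧ Φ 1 = algebraMap R A s := by
  classical
  let E := Afix (R := R) (A := A) N₁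
  haveI : Algebra.IsIntegral R A := Algebra.IsInvariant.isIntegral R A H
  haveI : Algebra.IsIntegral R E :=
    Algebra.IsIntegral.of_injective E.val Subtype.val_injective
  haveI : Algebra.IsIntegral E A := Algebra.IsIntegral.tower_top R
  let v : E → E := fun y => ⟨t • (y : A) - y, sub_mem (smul_mem_Afix hcomm t y.2) y.2⟩
  let J : Ideal E := Ideal.span (Set.range v)
  have key : ¬ J.comap (algebraMap R E) ≤ 𝔭 := by
    intro hle
    obtain ⟨𝔮, hJ𝔮, h𝔮prime, h𝔮⟩ := Ideal.exists_ideal_over_prime_of_isIntegral 𝔭 J hle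
    haveI := h𝔮prime
    obtain ⟨P, -, hPprime, hP⟩ :=
      Ideal.exists_ideal_over_prime_of_isIntegral 𝔮 (⊥ : Ideal A) (by
        rw [Ideal.comap_bot_of_injective _ (show Function.Injective (algebraMap E A) from
          Subtype.val_injective)]
        exact bot_le)
    haveI := hPprime
    have hP𝔭 : P.comap (algebraMap R A) = 𝔭 := by
      rw [← h𝔮, ← hP, Ideal.comap_comap]
      rfl
    refine ht (mem_of_forall_smul_sub_mem (R := R) hcomm N₁ t P (h𝔭 P hPprime hP𝔭)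
      (fun y hy => ?_))
    have h1 : v ⟨y, hy⟩ ∈ 𝔮 := hJ𝔮 (Ideal.subset_span ⟨_, rfl⟩)
    rw [← hP] at h1
    exact h1
  obtain ⟨s, hsJ, hs𝔭⟩ := Set.not_subset.mp key
  obtain ⟨c, hc⟩ := Finsupp.mem_ideal_span_range_iff_exists_finsupp.mp hsJ
  let Φ : H → A := fun h => ∑ i ∈ c.support, ((c i : E) : A) * (t • (i : A) - h • (i : A))
  have hΦeq : Φ = ∑ i ∈ c.support,
      (genFun (((c i : E) : A) * t • (i : A)) 1 - genFun ((c i : E) : A) (i : A)) := by
    funext h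
    simp only [Φ, genFun, Finset.sum_apply, Pi.sub_apply, smul_one, mul_one, mul_sub]
  refine ⟨Φ, ?_, ?_, s, hs𝔭, ?_⟩
  · rw [hΦeq]
    refine Submodule.sum_mem _ (fun i _ => sub_mem ?_ ?_)
    · exact Submodule.subset_span
        ⟨_, mul_mem (c i).2 (smul_mem_Afix hcomm t i.2), 1, one_mem _, rfl⟩
    · exact Submodule.subset_span ⟨_, (c i).2, _, i.2, rfl⟩
  · simp [Φ]
  · have h1 : ((algebraMap R E s : E) : A) = algebraMap R A s := rfl
    rw [← h1, ← hc, Finsupp.sum]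
    simp only [Φ, one_smul]
    rw [AddSubmonoidClass.coe_finsetSum]
    rfl

theorem exists_smul_mem_sup [Finite H] [Algebra.IsInvariant R A H] (N₁ M N' : Subgroup H)
    (hN' : N' ≤ N₁) (hM : M ⊓ N₁ = ⊥) (𝔭 : Ideal R) [𝔭.IsPrime]
    (h𝔭 : ∀ P : Ideal A, P.IsPrime → P.comap (algebraMap R A) = 𝔭 → P.inertia H ≤ N₁)
    (a : A) (ha : a ∈ Afix (R := R) N') :
    ∃ s : R, s ∉ 𝔭 ∧ s • a ∈ Afix (R := R) N₁ ⊔ Afix (R := R) (M ⊔ N') := by
  classical
  haveI : Fintype M := Fintype.ofFinite M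
  have hex : ∀ m : {m : M // m ≠ 1}, ∃ Φ ∈ S (H := H) (Afix (R := R) N₁),
      Φ ((m.1 : M) : H) = 0 ∧ ∃ s : R, s ∉ 𝔭 ∧ Φ 1 = algebraMap R A s := fun m =>
    exists_mem_S_of_not_mem hcomm N₁ 𝔭 h𝔭 _ (by
      intro hmem
      apply m.2
      have h1 : ((m.1 : M) : H) ∈ M ⊓ N₁ := ⟨m.1.2, hmem⟩
      rw [hM, Subgroup.mem_bot] at h1
      exact Subtype.ext h1)
  choose Φ hΦS hΦ0 s hs hΦ1 using hex
  let Ψ : H → A := ∏ m : {m : M // m ≠ 1}, Φ m
  have hΨS : Ψ ∈ S (H := H) (Afix (R := R) N₁) :=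
    Finset.prod_induction _ (· ∈ S (H := H) (Afix (R := R) N₁)) (fun _ _ => S_mul_mem)
      (S_one_mem _) (fun m _ => hΦS m)
  have hΨ1 : Ψ 1 = algebraMap R A (∏ m, s m) := by
    simp only [Ψ, Finset.prod_apply, hΦ1, map_prod]
  have hΨ0 : ∀ m : M, m ≠ 1 → Ψ (m : H) = 0 := fun m hm => by
    simp only [Ψ, Finset.prod_apply]
    exact Finset.prod_eq_zero (Finset.mem_univ ⟨m, hm⟩) (hΦ0 ⟨m, hm⟩)
  have hs' : ∏ m, s m ∉ 𝔭 := by
    rw [Ideal.IsPrime.prod_mem_iff]
    rintro ⟨m, -, hm⟩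
    exact hs m hm
  refine ⟨∏ m, s m, hs', ?_⟩
  have hid : (∏ m, s m) • a = ∑ m : M, Ψ (m : H) * (m : H) • a := by
    rw [Finset.sum_eq_single (1 : M)]
    · rw [Subgroup.coe_one, one_smul, hΨ1, Algebra.smul_def]
    · intro m _ hm
      rw [hΨ0 m hm, zero_mul]
    · intro h
      exact absurd (Finset.mem_univ _) h
  rw [hid]
  exact sum_mul_smul_mem hcomm N₁ M N' hN' hΨS ha

end Comm

end Groth.Agent.Lib.Helper29.WildGen
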