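import Mathlib

/-!
# Linear disjointness of fixed fields of complementary subgroups (helper29)
-/

set_option autoImplicit false
set_option linter.style.haveILetI false
set_option linter.unusedSectionVars false

namespace Groth.Agent.Lib.Helper29.WildGen

open IntermediateField

section Field

variable {K L : Type*} [Field K] [Field L] [Algebra K L]
  {H : Type*} [Group H] [Finite H] [MulSemiringAction H L] [IsGaloisGroup H K L]

/-- products of linearly independent families from the fixed fields of two subgroups generating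
an abelian Galois group are linearly independent. -/
theorem linearIndependent_mul_of_sup_eq_top (hcomm : ∀ g h : H, g * h = h * g)
    (N₁ N₂ : Subgroup H) (hsup : N₁ ⊔ N₂ = ⊤) {ι₁ ι₂ : Type*} (ε : ι₁ → L) (β : ι₂ → L)
    (hε : ∀ i, ∀ h ∈ N₁, h • ε i = ε i) (hβ : ∀ j, ∀ h ∈ N₂, h • β j = β j)
    (hεli : LinearIndependent K ε) (hβli : LinearIndependent K β) :
    LinearIndependent K (fun ij : ι₁ × ι₂ => ε ij.1 * β ij.2) := by
  haveI : SMulCommClass H K L := IsGaloisGroup.commutes
  haveI : FiniteDimensional K L := IsGaloisGroup.finiteDimensional H K L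
  haveI : N₁.Normal := ⟨fun n hn g => by rw [hcomm g n, mul_inv_cancel_right]; exact hn⟩
  let F₁ : IntermediateField K L := FixedPoints.intermediateField N₁
  let F₂ : IntermediateField K L := FixedPoints.intermediateField N₂
  haveI : IsGaloisGroup N₁ F₁ L := IsGaloisGroup.subgroup H K L N₁
  haveI : IsGaloisGroup (H ⧸ N₁) K F₁ := inferInstance
  haveI : IsGalois K F₁ := IsGaloisGroup.isGalois (H ⧸ N₁) K F₁
  have hinf : F₁ ⊓ F₂ = ⊥ := by
    rw [eq_bot_iff]
    intro x hx
    have h1 : ∀ m : N₁, m • x = x := hx.1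
    have h2 : ∀ m : N₂, m • x = x := hx.2
    have hle : N₁ ⊔ N₂ ≤ MulAction.stabilizer H x :=
      sup_le (fun m hm => MulAction.mem_stabilizer_iff.mpr (h1 ⟨m, hm⟩))
        (fun m hm => MulAction.mem_stabilizer_iff.mpr (h2 ⟨m, hm⟩))
    rw [hsup] at hle
    have hfix : ∀ h : H, h • x = x := fun h => MulAction.mem_stabilizer_iff.mp (hle trivial)
    obtain ⟨c, hc⟩ := (IsGaloisGroup.isInvariant (G := H) (A := K) (B := L)).isInvariant x hfix
    rw [IntermediateField.mem_bot]
    exact ⟨c, hc⟩
  have hLD : F₁.LinearDisjoint F₂ := IntermediateField.LinearDisjoint.of_inf_eq_bot hinf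
  let ε' : ι₁ → F₁ := fun i => ⟨ε i, fun m => hε i m.1 m.2⟩
  let β' : ι₂ → F₂ := fun j => ⟨β j, fun m => hβ j m.1 m.2⟩
  have hε' : LinearIndependent K ε' :=
    LinearIndependent.of_comp F₁.val.toLinearMap (by exact hεli)
  have hβ' : LinearIndependent K β' :=
    LinearIndependent.of_comp F₂.val.toLinearMap (by exact hβli)
  have h := hLD.linearIndependent_mul hε' hβ'
  exact h

end Field

end Groth.Agent.Lib.Helper29.WildGen
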