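import Mathlib

/-!
# Independence of order-`p` subgroups generating a commutative group of order `p ^ n` (helper29)
-/

set_option autoImplicit false
set_option linter.style.haveILetI false
set_option linter.unusedSectionVars false

namespace Groth.Agent.Lib.Helper29.WildGen

universe w

section Indep

variable {H : Type w} [Group H] [Finite H] {ι : Type} [Fintype ι] [DecidableEq ι]
  (hcomm : ∀ g h : H, g * h = h * g) (G : ι → Subgroup H) (p : ℕ)
  (hcard : Nat.card H = p ^ Fintype.card ι) (hG : ∀ i, Nat.card (G i) = p)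
  (hsup : (⨆ i, G i) = ⊤)

include hcomm hcard hG hsup in
theorem biSup_inf_biSup_eq_bot (S T : Finset ι) (hST : Disjoint S T) :
    (⨆ j ∈ S, G j) ⊓ (⨆ j ∈ T, G j) = ⊥ := by
  have hc : Pairwise fun i j : ι => ∀ x y : H, x ∈ G i → y ∈ G j → Commute x y :=
    fun i j _ x y _ _ => hcomm x y
  let ψ := Subgroup.noncommPiCoprod hc
  have hsurj : Function.Surjective ψ := by
    rw [← MonoidHom.range_eq_top, Subgroup.noncommPiCoprod_range, hsup]
  have hbij : Function.Bijective ψ := by
    refine hsurj.bijective_of_nat_card_le ?_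
    rw [Nat.card_pi, hcard]
    simp [hG]
  -- subgroup of functions supported in S
  let K : Finset ι → Subgroup (∀ i, G i) := fun S =>
    { carrier := {f | ∀ j, j ∉ S → f j = 1}
      mul_mem' := by
        intro a b ha hb j hj
        simp [ha j hj, hb j hj]
      one_mem' := by
        intro j hj; rfl
      inv_mem' := by
        intro a ha j hj
        simp [ha j hj] }
  have hK : ∀ S : Finset ι, (⨆ j ∈ S, G j) ≤ (K S).map ψ := by
    intro S
    refine iSup₂_le (fun j hj x hx => ?_)
    refine ⟨Pi.mulSingle j ⟨x, hx⟩, ?_, ?_⟩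
    · intro k hk
      have : k ≠ j := fun h => hk (h ▸ hj)
      simp [Pi.mulSingle_eq_of_ne this]
    · simp [ψ]
  rw [eq_bot_iff]
  rintro x ⟨hxS, hxT⟩
  obtain ⟨f, hf, rfl⟩ := hK S hxS
  obtain ⟨g, hg, hfg⟩ := hK T hxT
  have : g = f := hbij.1 hfg
  subst this
  have hf1 : g = 1 := by
    funext j
    by_cases hj : j ∈ S
    · exact hg j (Finset.disjoint_left.mp hST hj)
    · exact hf j hj
  rw [hf1, map_one]
  exact Subgroup.one_mem _

end Indep

end Groth.Agent.Lib.Helper29.WildGen
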