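import Mathlib
import Groth.Agent.Lib.Helper21.Hartogs
import Groth.Agent.Lib.Helper29.HeightMaps
import Groth.Agent.Lib.Helper29.WildGen.Descent
import Groth.Agent.Lib.Helper29.WildGen.Disjoint

/-!
# The compositum of two rings of invariants (helper29)
-/

set_option autoImplicit false
set_option linter.style.haveILetI false
set_option linter.unusedSectionVars false
universe u v w

namespace Groth.Agent.Lib.Helper29.WildGen

open Pointwise

section LI

variable {R : Type u} {A : Type v} [CommRing R] [CommRing A] [Algebra R A]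
  [IsDomain A] {H : Type w} [Group H] [Finite H] [MulSemiringAction H A] [SMulCommClass H R A]
  [FaithfulSMul H A] [Algebra.IsInvariant R A H]

/-- products of `R`-linearly independent families of invariants of two subgroups generating the
abelian group `H` are linearly independent. -/
theorem linearIndependent_mul_of_sup_eq_top' (hcomm : ∀ g h : H, g * h = h * g)
    (hinj : Function.Injective (algebraMap R A))
    (N₁ N₂ : Subgroup H) (hsup : N₁ ⊔ N₂ = ⊤) {ι₁ ι₂ : Type*} (e : ι₁ → A) (b : ι₂ → A)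
    (he : ∀ i, e i ∈ Afix (R := R) N₁) (hb : ∀ j, b j ∈ Afix (R := R) N₂)
    (heli : LinearIndependent R e) (hbli : LinearIndependent R b) :
    LinearIndependent R (fun ij : ι₁ × ι₂ => e ij.1 * b ij.2) := by
  haveI : IsDomain R := hinj.isDomain
  haveI : FaithfulSMul R A := (faithfulSMul_iff_algebraMap_injective R A).mpr hinj
  let K := FractionRing R
  let L := FractionRing A
  letI : Algebra K L := FractionRing.liftAlgebra R L
  haveI : IsScalarTower R K L := FractionRing.isScalarTower_liftAlgebra R L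
  letI : MulSemiringAction H L := IsFractionRing.mulSemiringAction H A L
  haveI : SMulDistribClass H A L := IsFractionRing.smulDistribClass H A L
  haveI : IsGaloisGroup H R A :=
    { faithful := inferInstance, commutes := inferInstance, isInvariant := inferInstance }
  haveI : IsGaloisGroup H K L := IsGaloisGroup.to_isFractionRing H R A K L
  let f : A →ₗ[R] L := (IsScalarTower.toAlgHom R A L).toLinearMap
  have hf : LinearMap.ker f = ⊥ :=
    LinearMap.ker_eq_bot.mpr (IsFractionRing.injective A L)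
  have hε : ∀ i, ∀ h ∈ N₁, h • algebraMap A L (e i) = algebraMap A L (e i) := by
    intro i h hh
    rw [← algebraMap.smul', mem_Afix.mp (he i) h hh]
  have hβ : ∀ j, ∀ h ∈ N₂, h • algebraMap A L (b j) = algebraMap A L (b j) := by
    intro j h hh
    rw [← algebraMap.smul', mem_Afix.mp (hb j) h hh]
  have hεli : LinearIndependent K (fun i => algebraMap A L (e i)) :=
    (LinearIndependent.iff_fractionRing R K).mp (heli.map' f hf)
  have hβli : LinearIndependent K (fun j => algebraMap A L (b j)) :=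
    (LinearIndependent.iff_fractionRing R K).mp (hbli.map' f hf)
  have key := linearIndependent_mul_of_sup_eq_top (K := K) (L := L) hcomm N₁ N₂ hsup _ _ hε hβ
    hεli hβli
  have key' := (LinearIndependent.iff_fractionRing R K).mpr key
  have hcomp : (f ∘ fun ij : ι₁ × ι₂ => e ij.1 * b ij.2) =
      fun ij : ι₁ × ι₂ => algebraMap A L (e ij.1) * algebraMap A L (b ij.2) := by
    funext ij
    exact map_mul (algebraMap A L) _ _
  apply LinearIndependent.of_comp f
  rw [hcomp]
  exact key'

end LI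

section Hartogs

variable {R : Type u} {A : Type v} [CommRing R] [CommRing A] [Algebra R A]
  [IsDomain R] [IsNoetherianRing R] [IsIntegrallyClosed R] [IsDomain A]

/-- coefficientwise algebraic Hartogs -/
theorem mem_span_of_forall_height_one (hinj : Function.Injective (algebraMap R A))
    {ι : Type*} [Fintype ι] (π : ι → A) (hπ : LinearIndependent R π) (a : A)
    (h0 : ∃ s : R, s ≠ 0 ∧ s • a ∈ Submodule.span R (Set.range π))
    (h1 : ∀ 𝔭 : Ideal R, 𝔭.IsPrime → 𝔭.height = 1 →
      ∃ s : R, s ∉ 𝔭 ∧ s • a ∈ Submodule.span R (Set.range π)) :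
    a ∈ Submodule.span R (Set.range π) := by
  classical
  let K := FractionRing R
  obtain ⟨s₀, hs₀, hmem₀⟩ := h0
  obtain ⟨r0, hr0⟩ := (Submodule.mem_span_range_iff_exists_fun R).mp hmem₀
  have hcoef : ∀ i, ∃ ρ : R, ρ * s₀ = r0 i := by
    intro i
    have hs₀K : algebraMap R K s₀ ≠ 0 := by
      intro h
      exact hs₀ ((IsFractionRing.injective R K) (by rw [h, map_zero]))
    have := Groth.Agent.Lib.Helper21.Hartogs.mem_range_of_forall_height_one (R := R) K
      (algebraMap R K (r0 i) / algebraMap R K s₀) (fun 𝔭 h𝔭 h𝔭1 => by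
        obtain ⟨s, hs, hmem⟩ := h1 𝔭 h𝔭 h𝔭1
        obtain ⟨r, hr⟩ := (Submodule.mem_span_range_iff_exists_fun R).mp hmem
        refine ⟨r i, s, hs, ?_⟩
        -- `s * r0 i = s₀ * r i`
        have h2 : ∑ j, (s * r0 j - s₀ * r j) • π j = 0 := by
          have e1 : ∑ j, (s * r0 j) • π j = s • s₀ • a := by
            rw [← hr0, Finset.smul_sum]
            exact Finset.sum_congr rfl (fun j _ => by rw [mul_smul])
          have e2 : ∑ j, (s₀ * r j) • π j = s₀ • s • a := by
            rw [← hr, Finset.smul_sum]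
            exact Finset.sum_congr rfl (fun j _ => by rw [mul_smul])
          simp only [sub_smul, Finset.sum_sub_distrib, e1, e2]
          rw [smul_comm, sub_self]
        have h3 := (Fintype.linearIndependent_iff.mp hπ) _ h2 i
        rw [sub_eq_zero] at h3
        rw [div_mul_eq_mul_div, div_eq_iff hs₀K, ← map_mul, ← map_mul, mul_comm (r0 i) s, h3,
          mul_comm])
    obtain ⟨ρ, hρ⟩ := this
    refine ⟨ρ, ?_⟩
    apply IsFractionRing.injective R K
    rw [map_mul]
    change algebraMap R K ρ = _ at hρ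
    rw [hρ, div_mul_cancel₀ _ hs₀K]
  choose ρ hρ using hcoef
  have hfin : s₀ • (a - ∑ i, ρ i • π i) = 0 := by
    rw [smul_sub, ← hr0, Finset.smul_sum, sub_eq_zero]
    refine Finset.sum_congr rfl (fun i _ => ?_)
    rw [← hρ i, mul_smul, smul_comm]
  have hs₀A : algebraMap R A s₀ ≠ 0 := by
    intro h
    exact hs₀ (hinj (by rw [h, map_zero]))
  rw [Algebra.smul_def, mul_eq_zero] at hfin
  rcases hfin with h | h
  · exact absurd h hs₀A
  · rw [sub_eq_zero] at h
    rw [h]
    exact Submodule.sum_mem _ (fun i _ => Submodule.smul_mem _ _ (Submodule.subset_span ⟨i, rfl⟩))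

end Hartogs

section TwoStep

variable {R : Type u} {A : Type v} [CommRing R] [CommRing A] [Algebra R A]
  [IsDomain R] [IsNoetherianRing R] [IsIntegrallyClosed R] [IsDomain A] [Module.Finite R A]
  {H : Type w} [Group H] [Finite H] [MulSemiringAction H A] [SMulCommClass H R A]
  [FaithfulSMul H A] [Algebra.IsInvariant R A H]

omit [IsDomain R] [IsNoetherianRing R] [IsIntegrallyClosed R] [IsDomain A] [Module.Finite R A]
  [Finite H] [FaithfulSMul H A] [Algebra.IsInvariant R A H] [SMulCommClass H R A] in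
theorem inertia_smul_eq (hcomm : ∀ g h : H, g * h = h * g) (P : Ideal A) (h : H) :
    (h • P).inertia H = P.inertia H := by
  ext σ
  constructor
  · intro hσ a
    have h1 := hσ (h • a)
    change σ • h • a - h • a ∈ h • P at h1
    rw [Ideal.mem_pointwise_smul_iff_inv_smul_mem, smul_sub, inv_smul_smul, ← mul_smul,
      ← mul_smul] at h1
    have h2 : h⁻¹ * σ * h = σ := by rw [hcomm h⁻¹ σ, mul_assoc, inv_mul_cancel, mul_one]
    rw [h2] at h1
    change σ • a - a ∈ P
    exact h1
  · intro hσ a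
    have h1 := hσ (h⁻¹ • a)
    change σ • a - a ∈ h • P
    rw [Ideal.mem_pointwise_smul_iff_inv_smul_mem, smul_sub, ← mul_smul, hcomm h⁻¹ σ, mul_smul]
    exact h1

variable (hcomm : ∀ g h : H, g * h = h * g) (hinj : Function.Injective (algebraMap R A))
  (N₁ N₂ N' M₁ M₂ : Subgroup H) (hN'1 : N' ≤ N₁) (hN'2 : N' ≤ N₂)
  (hM2 : M₂ ⊓ N₁ = ⊥) (hM2' : M₂ ⊔ N' = N₂) (hM1 : M₁ ⊓ N₂ = ⊥) (hM1' : M₁ ⊔ N' = N₁)
  (hsup : N₁ ⊔ N₂ = ⊤)
  (hin : ∀ P : Ideal A, P.IsPrime → P.height ≤ 1 → P.inertia H ≤ N₁ ∨ P.inertia H ≤ N₂)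

include hcomm hinj hN'1 hN'2 hM2 hM2' hM1 hM1' hin in
theorem exists_smul_mem_sup_of_height_le_one (𝔭 : Ideal R) [𝔭.IsPrime] (h𝔭 : 𝔭.height ≤ 1)
    (a : A) (ha : a ∈ Afix (R := R) N') :
    ∃ s : R, s ∉ 𝔭 ∧ s • a ∈ Afix (R := R) N₁ ⊔ Afix (R := R) N₂ := by
  haveI : Algebra.IsIntegral R A := Algebra.IsInvariant.isIntegral R A H
  obtain ⟨P₀, hP₀prime, hP₀⟩ := Ideal.exists_ideal_over_prime_of_isIntegral_of_isDomain
    (S := A) 𝔭 (by
      rw [(RingHom.injective_iff_ker_eq_bot _).mp hinj]
      exact bot_le)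
  haveI := hP₀prime
  have hht : P₀.height ≤ 1 :=
    (Groth.Agent.Lib.Helper29.height_le_height_comap_of_isIntegral (algebraMap R A)
      (fun x => Algebra.IsIntegral.isIntegral x) P₀).trans (by rw [hP₀]; exact h𝔭)
  have hall : ∀ P : Ideal A, P.IsPrime → P.comap (algebraMap R A) = 𝔭 →
      P.inertia H = P₀.inertia H := by
    intro P hP hP𝔭
    haveI := hP
    obtain ⟨g, hg⟩ := Algebra.IsInvariant.exists_smul_of_under_eq R A H P₀ P (by
      rw [Ideal.under_def, Ideal.under_def, hP₀, hP𝔭])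
    rw [hg, inertia_smul_eq hcomm]
  rcases hin P₀ hP₀prime hht with h | h
  · obtain ⟨s, hs, hmem⟩ := exists_smul_mem_sup hcomm N₁ M₂ N' hN'1 hM2 𝔭
      (fun P hP hP𝔭 => (hall P hP hP𝔭).le.trans h) a ha
    rw [hM2'] at hmem
    exact ⟨s, hs, hmem⟩
  · obtain ⟨s, hs, hmem⟩ := exists_smul_mem_sup hcomm N₂ M₁ N' hN'2 hM1 𝔭
      (fun P hP hP𝔭 => (hall P hP hP𝔭).le.trans h) a ha
    rw [hM1', sup_comm] at hmem
    exact ⟨s, hs, hmem⟩

include hcomm hinj hN'1 hN'2 hM2 hM2' hM1 hM1' hin hsup in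
theorem two_step [Module.Free R (Afix (R := R) (A := A) N₁)]
    [Module.Free R (Afix (R := R) (A := A) N₂)] :
    Afix (R := R) N₁ ⊔ Afix (R := R) N₂ = Afix (R := R) (A := A) N' ∧
      Module.Free R (Afix (R := R) (A := A) N') := by
  classical
  haveI : IsNoetherian R A := isNoetherian_of_isNoetherianRing_of_finite R A
  haveI : Module.Finite R (Afix (R := R) (A := A) N₁) :=
    Module.Finite.of_injective (Afix (R := R) (A := A) N₁).val.toLinearMap Subtype.val_injective
  haveI : Module.Finite R (Afix (R := R) (A := A) N₂) :=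
    Module.Finite.of_injective (Afix (R := R) (A := A) N₂).val.toLinearMap Subtype.val_injective
  let e := Module.Free.chooseBasis R (Afix (R := R) (A := A) N₁)
  let b := Module.Free.chooseBasis R (Afix (R := R) (A := A) N₂)
  let ι₁ := Module.Free.ChooseBasisIndex R (Afix (R := R) (A := A) N₁)
  let ι₂ := Module.Free.ChooseBasisIndex R (Afix (R := R) (A := A) N₂)
  let π : ι₁ × ι₂ → A := fun ij => (e ij.1 : A) * (b ij.2 : A)
  have hπli : LinearIndependent R π :=
    linearIndependent_mul_of_sup_eq_top' hcomm hinj N₁ N₂ hsup (fun i => (e i : A))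
      (fun j => (b j : A)) (fun i => (e i).2) (fun j => (b j).2)
      (e.linearIndependent.map' (Afix (R := R) (A := A) N₁).val.toLinearMap
        (LinearMap.ker_eq_bot.mpr Subtype.val_injective))
      (b.linearIndependent.map' (Afix (R := R) (A := A) N₂).val.toLinearMap
        (LinearMap.ker_eq_bot.mpr Subtype.val_injective))
  have hspan : Subalgebra.toSubmodule (Afix (R := R) N₁ ⊔ Afix (R := R) N₂) ≤
      Submodule.span R (Set.range π) := by
    rw [← Subalgebra.mul_toSubmodule, Submodule.mul_le]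
    intro m hm n hn
    have h1 : m = ∑ i, e.repr ⟨m, hm⟩ i • (e i : A) := by
      have := congrArg Subtype.val (e.sum_repr ⟨m, hm⟩)
      exact this.symm.trans (by push_cast; rfl)
    have h2 : n = ∑ j, b.repr ⟨n, hn⟩ j • (b j : A) := by
      have := congrArg Subtype.val (b.sum_repr ⟨n, hn⟩)
      exact this.symm.trans (by push_cast; rfl)
    rw [h1, h2, Finset.sum_mul_sum]
    refine Submodule.sum_mem _ (fun i _ => Submodule.sum_mem _ (fun j _ => ?_))
    rw [smul_mul_smul_comm]
    exact Submodule.smul_mem _ _ (Submodule.subset_span ⟨(i, j), rfl⟩)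
  have hspan' : Submodule.span R (Set.range π) ≤
      Subalgebra.toSubmodule (Afix (R := R) N₁ ⊔ Afix (R := R) N₂) := by
    rw [Submodule.span_le]
    rintro _ ⟨ij, rfl⟩
    rw [SetLike.mem_coe, Subalgebra.mem_toSubmodule]
    exact mul_mem ((le_sup_left : Afix (R := R) N₁ ≤ Afix (R := R) N₁ ⊔ Afix (R := R) N₂)
      (e ij.1).2) ((le_sup_right : Afix (R := R) N₂ ≤ Afix (R := R) N₁ ⊔ Afix (R := R) N₂)
      (b ij.2).2)
  have hmain : ∀ a ∈ Afix (R := R) (A := A) N', a ∈ Submodule.span R (Set.range π) := by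
    intro a ha
    refine mem_span_of_forall_height_one hinj π hπli a ?_ ?_
    · obtain ⟨s, hs, hmem⟩ := exists_smul_mem_sup_of_height_le_one hcomm hinj N₁ N₂ N' M₁ M₂
        hN'1 hN'2 hM2 hM2' hM1 hM1' hin (⊥ : Ideal R) (by rw [Ideal.height_bot]; exact zero_le_one)
        a ha
      exact ⟨s, fun h => hs (h ▸ Ideal.zero_mem _), hspan hmem⟩
    · intro 𝔭 h𝔭 h𝔭1
      haveI := h𝔭
      obtain ⟨s, hs, hmem⟩ := exists_smul_mem_sup_of_height_le_one hcomm hinj N₁ N₂ N' M₁ M₂
        hN'1 hN'2 hM2 hM2' hM1 hM1' hin 𝔭 h𝔭1.le a ha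
      exact ⟨s, hs, hspan hmem⟩
  have heq : Afix (R := R) N₁ ⊔ Afix (R := R) N₂ = Afix (R := R) (A := A) N' :=
    le_antisymm (sup_le (Afix_mono hN'1) (Afix_mono hN'2)) (fun a ha => hspan' (hmain a ha))
  refine ⟨heq, ?_⟩
  have hπmem : ∀ ij, π ij ∈ Afix (R := R) (A := A) N' := fun ij =>
    heq ▸ hspan' (Submodule.subset_span ⟨ij, rfl⟩)
  let π' : ι₁ × ι₂ → Afix (R := R) (A := A) N' := fun ij => ⟨π ij, hπmem ij⟩
  have hπ'li : LinearIndependent R π' :=
    LinearIndependent.of_comp (Afix (R := R) (A := A) N').val.toLinearMap (by exact hπli)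
  have hπ'span : ⊤ ≤ Submodule.span R (Set.range π') := by
    rintro x -
    obtain ⟨c, hc⟩ := (Submodule.mem_span_range_iff_exists_fun R).mp (hmain x.1 x.2)
    rw [Submodule.mem_span_range_iff_exists_fun]
    refine ⟨c, Subtype.ext ?_⟩
    rw [← hc]
    simp [π']
  exact Module.Free.of_basis (Module.Basis.mk hπ'li hπ'span)

end TwoStep

end Groth.Agent.Lib.Helper29.WildGen
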