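import Mathlib
import Groth.Agent.Lib.Helper29.WildGen.Two
import Groth.Agent.Lib.Helper29.WildGen.Indep

/-!
# Generation of `A` by the invariant rings `A^{G_i^⊥}` (helper29)
-/

set_option autoImplicit false
set_option linter.style.haveILetI false
set_option linter.unusedSectionVars false

namespace Groth.Agent.Lib.Helper29.WildGen

universe u v w

section Main

variable {R : Type u} {A : Type v} [CommRing R] [CommRing A] [Algebra R A]
  [IsDomain R] [IsNoetherianRing R] [IsIntegrallyClosed R] [IsDomain A] [Module.Finite R A]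
  {H : Type w} [Group H] [Finite H] [MulSemiringAction H A] [SMulCommClass H R A]
  [FaithfulSMul H A] [Algebra.IsInvariant R A H]
  (hcomm : ∀ g h : H, g * h = h * g) (hinj : Function.Injective (algebraMap R A))
  {n : ℕ} (Gi : Fin n → Subgroup H) (p : ℕ) (hcard : Nat.card H = p ^ n)
  (hGi : ∀ i, Nat.card (Gi i) = p) (hsup : (⨆ i, Gi i) = ⊤)
  (hMR3 : ∀ P : Ideal A, P.IsPrime → P.height = 1 → P.inertia H ≠ ⊥ → ∃ i, P.inertia H = Gi i)
  (hMR4 : ∀ i, Module.Free R
    (Afix (R := R) (A := A) (⨆ j ∈ (Finset.univ.erase i : Finset (Fin n)), Gi j)))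

omit [IsDomain R] [IsNoetherianRing R] [IsIntegrallyClosed R] [Module.Finite R A] [Finite H]
  [Algebra.IsInvariant R A H] [SMulCommClass H R A] in
theorem inertia_bot_eq_bot : (⊥ : Ideal A).inertia H = ⊥ := by
  rw [eq_bot_iff]
  intro σ hσ
  rw [Subgroup.mem_bot]
  refine FaithfulSMul.eq_of_smul_eq_smul (α := A) (fun a => ?_)
  have := hσ a
  rw [one_smul]
  exact sub_eq_zero.mp this

omit [IsDomain R] [IsNoetherianRing R] [IsIntegrallyClosed R] [IsDomain A] [Module.Finite R A]
  [Finite H] [FaithfulSMul H A] in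
include hinj in
theorem Afix_top : Afix (R := R) (A := A) (⊤ : Subgroup H) = ⊥ := by
  rw [eq_bot_iff]
  intro a ha
  rw [mem_Afix] at ha
  obtain ⟨r, hr⟩ := Algebra.IsInvariant.isInvariant (A := R) (G := H) a
    (fun g => ha g (Subgroup.mem_top g))
  rw [Algebra.mem_bot]
  exact ⟨r, hr⟩

omit [IsDomain R] [IsNoetherianRing R] [IsIntegrallyClosed R] [IsDomain A] [Module.Finite R A]
  [Finite H] [FaithfulSMul H A] [Algebra.IsInvariant R A H] in
theorem Afix_bot : Afix (R := R) (A := A) (⊥ : Subgroup H) = ⊤ := by
  rw [eq_top_iff]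
  intro a _
  rw [mem_Afix]
  intro h hh
  rw [Subgroup.mem_bot] at hh
  rw [hh, one_smul]

include hcomm hinj hcard hGi hsup hMR3 hMR4 in
theorem main_induction (S : Finset (Fin n)) :
    Afix (R := R) (A := A) (⨆ j ∈ (Finset.univ \ S : Finset (Fin n)), Gi j) =
        ⨆ i ∈ S, Afix (R := R) (A := A)
          (⨆ j ∈ (Finset.univ.erase i : Finset (Fin n)), Gi j) ∧
      Module.Free R (Afix (R := R) (A := A) (⨆ j ∈ (Finset.univ \ S : Finset (Fin n)), Gi j)) := by
  classical
  have hcard' : Nat.card H = p ^ Fintype.card (Fin n) := by rw [Fintype.card_fin]; exact hcard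
  have hdisj : ∀ S T : Finset (Fin n), Disjoint S T →
      (⨆ j ∈ S, Gi j) ⊓ (⨆ j ∈ T, Gi j) = ⊥ :=
    biSup_inf_biSup_eq_bot hcomm Gi p hcard' hGi hsup
  have hmono : ∀ S T : Finset (Fin n), S ⊆ T → (⨆ j ∈ S, Gi j) ≤ ⨆ j ∈ T, Gi j :=
    fun S T hST => biSup_mono (fun j hj => hST hj)
  induction S using Finset.induction_on with
  | empty =>
    have h1 : (⨆ j ∈ (Finset.univ \ ∅ : Finset (Fin n)), Gi j) = ⊤ := by
      rw [Finset.sdiff_empty, ← hsup]
      simp
    rw [h1, Afix_top hinj]
    refine ⟨by simp, ?_⟩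
    exact Module.Free.of_equiv (Algebra.botEquivOfInjective hinj).symm.toLinearEquiv
  | insert i S hiS ih =>
    obtain ⟨ih1, ih2⟩ := ih
    haveI := ih2
    haveI := hMR4 i
    have hin : ∀ P : Ideal A, P.IsPrime → P.height ≤ 1 →
        P.inertia H ≤ (⨆ j ∈ (Finset.univ \ S : Finset (Fin n)), Gi j) ∨
        P.inertia H ≤ (⨆ j ∈ (Finset.univ.erase i : Finset (Fin n)), Gi j) := by
      intro P hP hht
      by_cases hbot : P.inertia H = ⊥
      · left
        rw [hbot]
        exact bot_le
      · have hne : P.height ≠ 0 := by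
          intro h0
          rw [Ideal.height_eq_zero_iff_eq_bot] at h0
          exact hbot (h0 ▸ inertia_bot_eq_bot)
        have h1 : P.height = 1 :=
          le_antisymm hht (Order.one_le_iff_pos.mpr (pos_iff_ne_zero.mpr hne))
        obtain ⟨i₀, hi₀⟩ := hMR3 P hP h1 hbot
        rw [hi₀]
        by_cases hi₀S : i₀ ∈ S
        · right
          have : i₀ ∈ (Finset.univ.erase i : Finset (Fin n)) :=
            Finset.mem_erase.mpr ⟨fun h => hiS (h ▸ hi₀S), Finset.mem_univ _⟩
          exact le_biSup Gi this
        · left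
          have : i₀ ∈ (Finset.univ \ S : Finset (Fin n)) :=
            Finset.mem_sdiff.mpr ⟨Finset.mem_univ _, hi₀S⟩
          exact le_biSup Gi this
    have key := two_step hcomm hinj
      (⨆ j ∈ (Finset.univ \ S : Finset (Fin n)), Gi j)
      (⨆ j ∈ (Finset.univ.erase i : Finset (Fin n)), Gi j)
      (⨆ j ∈ (Finset.univ \ insert i S : Finset (Fin n)), Gi j)
      (⨆ j ∈ ({i} : Finset (Fin n)), Gi j)
      (⨆ j ∈ S, Gi j)
      (hmono _ _ (Finset.sdiff_subset_sdiff le_rfl (Finset.subset_insert i S)))
      (hmono _ _ (by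
        intro j hj
        rw [Finset.mem_sdiff, Finset.mem_insert, not_or] at hj
        exact Finset.mem_erase.mpr ⟨hj.2.1, Finset.mem_univ _⟩))
      (hdisj _ _ (Finset.disjoint_sdiff))
      (by
        have hU : S ∪ (Finset.univ \ insert i S) = (Finset.univ.erase i : Finset (Fin n)) := by
          ext j
          simp only [Finset.mem_union, Finset.mem_sdiff, Finset.mem_univ, true_and,
            Finset.mem_insert, not_or, Finset.mem_erase, and_true]
          constructor
          · rintro (h | h)
            · exact fun hji => hiS (hji ▸ h)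
            · exact h.1
          · intro h
            by_cases hj : j ∈ S
            · exact Or.inl hj
            · exact Or.inr ⟨h, hj⟩
        rw [← Finset.iSup_union, hU])
      (hdisj _ _ (by
        rw [Finset.disjoint_singleton_left]
        exact Finset.notMem_erase i _))
      (by
        have hU : {i} ∪ (Finset.univ \ insert i S) = (Finset.univ \ S : Finset (Fin n)) := by
          ext j
          simp only [Finset.mem_union, Finset.mem_singleton, Finset.mem_sdiff, Finset.mem_univ,
            true_and, Finset.mem_insert, not_or]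
          constructor
          · rintro (h | h)
            · exact h ▸ hiS
            · exact h.2
          · intro h
            by_cases hj : j = i
            · exact Or.inl hj
            · exact Or.inr ⟨hj, h⟩
        rw [← Finset.iSup_union, hU])
      (by
        rw [eq_top_iff, ← hsup]
        refine iSup_le (fun j => ?_)
        by_cases hj : j = i
        · refine le_trans ?_ le_sup_left
          have : j ∈ (Finset.univ \ S : Finset (Fin n)) :=
            Finset.mem_sdiff.mpr ⟨Finset.mem_univ _, hj ▸ hiS⟩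
          exact le_biSup Gi this
        · refine le_trans ?_ le_sup_right
          have : j ∈ (Finset.univ.erase i : Finset (Fin n)) :=
            Finset.mem_erase.mpr ⟨hj, Finset.mem_univ _⟩
          exact le_biSup Gi this)
      hin
    refine ⟨?_, key.2⟩
    rw [Finset.iSup_insert, ← ih1, ← key.1, sup_comm]

include hcomm hinj hcard hGi hsup hMR3 hMR4 in
theorem iSup_Afix_eq_top :
    (⨆ i, Afix (R := R) (A := A)
      (⨆ j ∈ (Finset.univ.erase i : Finset (Fin n)), Gi j)) = ⊤ := by
  have h := (main_induction hcomm hinj Gi p hcard hGi hsup hMR3 hMR4 Finset.univ).1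
  rw [Finset.sdiff_self] at h
  have h2 : (⨆ j ∈ (∅ : Finset (Fin n)), Gi j) = ⊥ := by simp
  rw [h2, Afix_bot] at h
  rw [h]
  simp

end Main

end Groth.Agent.Lib.Helper29.WildGen
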